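import Cfsg.Agent.J4B.Nu
import Cfsg.Agent.Comp.J4.Rho
import Cfsg.Agent.Golay.Index

/-! The subgroup `2 ^ 11 : M24`. -/

set_option autoImplicit false

namespace Cfsg.Agent.J4B
open Cfsg Cfsg.Agent.Golay Cfsg.Agent.Comp
open Cfsg.Agent.Comp.J4 (s io io_ev pres R H io_inj)
open scoped Pointwise

theorem nu_none : nu {none} = 1 := by
  rw [← insert_empty_eq, nu_insert (by simp), D_self, nu_empty, mul_one]

theorem even_symmDiff {a b : Finset GolayPt} (ha : Even a.card) (hb : Even b.card) :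
    Even (symmDiff a b).card := by
  have := card_symmDiff_add a b
  rw [Nat.even_iff] at *
  omega

theorem exists_even (a : Finset GolayPt) : ∃ b : Finset GolayPt, Even b.card ∧ nu b = nu a ∧
    (b = a ∨ b = symmDiff a {none}) := by
  by_cases h : Even a.card
  · exact ⟨a, h, rfl, Or.inl rfl⟩
  · have := card_symmDiff_add a {none}
    rw [Finset.card_singleton] at this
    exact ⟨_, by rw [Nat.even_iff] at *; omega, by rw [nu_symmDiff, nu_none, mul_one], Or.inr rfl⟩

/-- the normal subgroup of order `2 ^ 11` -/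
def VV : Subgroup J where
  carrier := Set.range nu
  one_mem' := ⟨∅, rfl⟩
  mul_mem' := by rintro _ _ ⟨a, rfl⟩ ⟨b, rfl⟩; exact ⟨_, nu_symmDiff a b⟩
  inv_mem' := by rintro _ ⟨a, rfl⟩; exact ⟨a, eq_inv_of_mul_eq_one_left (nu_sq a)⟩

theorem nu_mem (a : Finset GolayPt) : nu a ∈ VV := ⟨a, rfl⟩

theorem VV_conj (g : M24) {x : J} (h : x ∈ VV) : io g * x * (io g)⁻¹ ∈ VV := by
  obtain ⟨a, rfl⟩ := h
  obtain ⟨b, hb, e, -⟩ := exists_even a
  exact ⟨_, e ▸ nu_smul g hb⟩

theorem VV_sq {x : J} (h : x ∈ VV) : x * x = 1 := by obtain ⟨a, rfl⟩ := h; exact nu_sq a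

theorem VV_comm {x y : J} (h : x ∈ VV) (h' : y ∈ VV) : x * y = y * x := by
  obtain ⟨a, rfl⟩ := h; obtain ⟨b, rfl⟩ := h'; exact nu_comm a b

section
variable {N : Subgroup J} (hN : ∀ g : M24, ∀ x ∈ N, io g * x * (io g)⁻¹ ∈ N)
include hN

theorem mem_of_card {a b : Finset GolayPt} (h : a.card = b.card) (h5 : a.card ≤ 5)
    (he : Even a.card) (ha : nu a ∈ N) : nu b ∈ N := by
  obtain ⟨g, hg, rfl⟩ := homog_M24 _ h5 a (Finset.subset_univ _) b (Finset.subset_univ _) rfl h.symm
  exact nu_smul ⟨g, hg⟩ he ▸ hN _ _ ha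

theorem VV_le_of_two {a : Finset GolayPt} (h : a.card = 2) (ha : nu a ∈ N) : VV ≤ N := by
  rintro _ ⟨b, rfl⟩
  induction b using Finset.induction_on with
  | empty => exact N.one_mem
  | insert x b hx ih =>
    rw [nu_insert hx]
    refine N.mul_mem ?_ ih
    by_cases e : x = none
    · rw [e, D_self]; exact N.one_mem
    · have := mem_of_card hN (b := {x, none}) (by rw [h, Finset.card_pair e]) (by omega)
        (by rw [h]; decide) ha
      rwa [nu_insert (by simpa using e), nu_none, mul_one] at this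

theorem VV_le_of_four {a : Finset GolayPt} (h : a.card = 4) (ha : nu a ∈ N) : VV ≤ N :=
  VV_le_of_two hN (a := symmDiff (um 15) (um 30)) (by decide +kernel) (by
    rw [nu_symmDiff]
    exact N.mul_mem (mem_of_card hN (h.trans (by decide +kernel)) (by omega) (by rw [h]; decide) ha)
      (mem_of_card hN (h.trans (by decide +kernel)) (by omega) (by rw [h]; decide) ha))

theorem VV_le {a : Finset GolayPt} (he : Even a.card) (hc : a ∉ CW) (ha : nu a ∈ N) : VV ≤ N := by
  induction hn : a.card using Nat.strong_induction_on generalizing a with | _ n ih => ?_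
  by_cases h : 5 ≤ a.card
  · obtain ⟨b, hb, h5⟩ := Finset.exists_subset_card_eq h
    obtain ⟨o, ⟨ho, h6⟩, -⟩ := octads_steiner.2 b h5
    have h7 := card_symmDiff_add a o
    have h8 := Finset.card_le_card (Finset.subset_inter hb h6)
    refine ih (symmDiff a o).card (by rw [ho.2] at h7; omega) (even_symmDiff he (by rw [ho.2]; decide))
      (fun e => hc ?_) (by rwa [nu_symmDiff, nu_CW ho.1, mul_one]) rfl
    simpa using CW_symmDiff e ho.1
  · have h0 : a.card ≠ 0 := fun e => hc (Finset.card_eq_zero.1 e ▸ CW_empty)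
    rw [Nat.even_iff] at he
    by_cases h2 : a.card = 2
    exacts [VV_le_of_two hN h2 ha, VV_le_of_four hN (by omega) ha]

theorem VV_le_of_v (h : v ∈ N) : VV ≤ N :=
  VV_le_of_four hN (a := um cT0) (by decide +kernel) (nu_T0 ▸ h)

theorem VV_irr : N ⊓ VV = ⊥ ∨ VV ≤ N := by
  refine or_iff_not_imp_right.2 fun h => eq_bot_iff.2 ?_
  rintro _ ⟨h1, a, rfl⟩
  obtain ⟨b, hb, e, -⟩ := exists_even a
  by_contra c
  exact h (VV_le hN hb (fun q => c (e ▸ nu_CW q)) (e ▸ h1))
end

theorem v_ne : v ≠ 1 := fun h => J4.ne_one (w := J4.vw) (by decide) (A := 1) 3 (by decide +kernel)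
  (by rw [← v_ev, h, map_one])

theorem nu_eq_one {a : Finset GolayPt} (he : Even a.card) : nu a = 1 ↔ a ∈ CW :=
  ⟨fun h => by_contra fun c => v_ne (nu_T0 ▸ VV_le (N := ⊥) (by simp) he c h (nu_mem _)), nu_CW⟩

theorem card_VV : Nat.card VV = 2048 := by
  have h1 : Set.range nu = nu '' (um 8384512).powerset := by
    refine (Set.image_subset_range _ _).antisymm' ?_
    rintro _ ⟨a, rfl⟩
    set b := symmDiff a (um (cw (mk a % 4096))) with hb
    have h2 : mk b % 4096 = 0 := by
      rw [hb, mk_symmDiff, mk_um (cw_lt _), show 4096 = 2 ^ 12 by norm_num, Nat.xor_eq,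
        Nat.xor_mod_two_pow, show 2 ^ 12 = 4096 by norm_num,
        cw_low _ (Nat.mod_lt _ (by norm_num)), Nat.xor_self]
    refine ⟨b.erase none, Finset.mem_coe.2 (Finset.mem_powerset.2 fun x hx => ?_), ?_⟩
    · rw [Finset.mem_erase, ← decide_eq_true_iff (p := x ∈ b), ← testBit_mk] at hx
      have h3 := Nat.testBit_mod_two_pow (mk b) 12 (gE.enc x)
      rw [show 2 ^ 12 = 4096 by norm_num, h2, hx.2, Nat.zero_testBit] at h3
      exact (by decide +kernel : ∀ x : GolayPt, x ≠ none → false = (decide (gE.enc x < 12) && true)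
        → x ∈ um 8384512) x hx.1 h3
    · rw [show nu a = nu b by rw [hb, nu_symmDiff, nu_CW (um_cw_mem _), mul_one]]
      by_cases e : none ∈ b
      · rw [← Finset.insert_erase e, nu_insert (by simp), D_self, one_mul, Finset.erase_insert]
        simp
      · rw [Finset.erase_eq_of_notMem e]
  have h2 : Set.InjOn nu (um 8384512).powerset := fun a ha b hb e => by
    obtain ⟨c, h3, h4, h5⟩ := exists_even (symmDiff a b)
    rw [nu_symmDiff, e, nu_sq, nu_eq_one h3] at h4
    have h6 : symmDiff a b ⊆ um 8384512 := symmDiff_le_sup.trans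
      (sup_le (Finset.mem_powerset.1 ha) (Finset.mem_powerset.1 hb))
    have h7 : c ⊆ um 16773120 := by
      rcases h5 with rfl | rfl
      exacts [h6.trans (by decide +kernel), symmDiff_le_sup.trans
        (sup_le (h6.trans (by decide +kernel)) (by decide +kernel))]
    have h8 : c = ∅ := mk_eq_zero.1 (eq_zero_of_syn (mk_lt _) (by
      rw [← (subset_iff_mk _ _).1 h7, mk_um (by norm_num), show 4096 = 2 ^ 12 by norm_num]
      exact (Nat.and_mod_two_pow ..).trans (by simp)) (syn_of_mem h4))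
    rcases h5 with e | e <;> rw [h8, eq_comm] at e
    · exact symmDiff_eq_bot.1 e
    · exact absurd (symmDiff_eq_bot.1 e ▸ h6) (by decide +kernel)
  rw [show Nat.card VV = (Set.range nu).ncard from rfl, h1, h2.ncard_image, Set.ncard_coe_finset,
    Finset.card_powerset, show (um 8384512).card = 11 by decide +kernel]
  norm_num

theorem io_mem (g : M24) : io g ∈ H := by
  have h : io.range ≤ H := by
    rw [J4.range_io]
    refine gen_le.2 fun x hx => ?_
    have h1 : s 1 ∈ H := letter_mem_genW (by simp)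
    interval_cases x
    exacts [letter_mem_genW (by simp), h1, u2 ▸ H.inv_mem h1]
  exact h ⟨g, rfl⟩

theorem VV_le_H : VV ≤ H := VV_le_of_v (fun g _ h => H.mul_mem (H.mul_mem (io_mem g) h)
  (H.inv_mem (io_mem g))) (v_ev ▸ ev_mem_genW (by simp))

theorem mem_H {x : J} : x ∈ H ↔ ∃ y ∈ VV, ∃ g : M24, x = y * io g := by
  refine ⟨fun h => ?_, by rintro ⟨y, hy, g, rfl⟩; exact H.mul_mem (VV_le_H hy) (io_mem g)⟩
  let K : Subgroup J :=
    { carrier := {x | ∃ y ∈ VV, ∃ g : M24, x = y * io g}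
      one_mem' := ⟨1, VV.one_mem, 1, by simp⟩
      mul_mem' := by
        rintro _ _ ⟨a, ha, g, rfl⟩ ⟨b, hb, k, rfl⟩
        exact ⟨_, VV.mul_mem ha (VV_conj g hb), g * k, by rw [map_mul]; group⟩
      inv_mem' := by
        rintro _ ⟨a, ha, g, rfl⟩
        exact ⟨_, VV_conj g⁻¹ (VV.inv_mem ha), g⁻¹, by rw [map_inv]; group⟩ }
  refine (genW_le (K := K)).2 (fun w hw => ?_) h
  simp only [List.mem_cons, List.not_mem_nil, or_false] at hw
  rcases hw with rfl | rfl | rfl
  exacts [⟨1, VV.one_mem, ev J4A.t [0], by rw [one_mul, io_ev (by decide)]⟩,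
    ⟨1, VV.one_mem, ev J4A.t [1], by rw [one_mul, io_ev (by decide)]⟩,
    ⟨_, nu_mem (um cT0), 1, by rw [map_one, mul_one, nu_T0, v_ev]⟩]

theorem VV_conj_H {h x : J} (hh : h ∈ H) (hx : x ∈ VV) : h * x * h⁻¹ ∈ VV := by
  obtain ⟨y, hy, g, rfl⟩ := mem_H.1 hh
  rw [show y * io g * x * (y * io g)⁻¹ = y * (io g * x * (io g)⁻¹) * y⁻¹ by group]
  exact VV.mul_mem (VV.mul_mem hy (VV_conj g hx)) (VV.inv_mem hy)

theorem eq_one_of_mem {g : M24} (h : io g ∈ VV) : g = 1 := by
  have := simple_M24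
  have hn : (VV.comap io).Normal := ⟨fun a ha g => by
    simpa only [Subgroup.mem_comap, map_mul, map_inv] using VV_conj g ha⟩
  rcases hn.eq_bot_or_eq_top with e | e
  · exact (e ▸ h : g ∈ (⊥ : Subgroup M24))
  · have h1 := VV_sq (e ▸ Subgroup.mem_top _ : ev J4A.t [1] ∈ VV.comap io)
    rw [← map_mul, ← ev_append, ← map_one io] at h1
    have h2 := J4A.pc_ev ([1] ++ [1])
    rw [io_inj h1, M24.coe_one, pc_one] at h2
    exact absurd h2 (by decide +kernel)

theorem card_H : Nat.card H = 2048 * 244823040 := by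
  rw [← card_VV, ← card_M24, ← Nat.card_prod]
  refine (Nat.card_eq_of_bijective (fun p : VV × M24 =>
    (⟨p.1 * io p.2, mem_H.2 ⟨_, p.1.2, _, rfl⟩⟩ : H)) ⟨?_, fun x => ?_⟩).symm
  · rintro ⟨a, g⟩ ⟨b, k⟩ e
    have e : a.1 * io g = b * io k := congrArg Subtype.val e
    have h : g * k⁻¹ = 1 := eq_one_of_mem (by
      rw [map_mul, map_inv, show io g * (io k)⁻¹ = a.1⁻¹ * b by
        rw [eq_inv_mul_iff_mul_eq, ← mul_assoc, e, mul_inv_cancel_right]]
      exact VV.mul_mem (VV.inv_mem a.2) b.2)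
    rw [mul_inv_eq_one.1 h] at e ⊢
    rw [Subtype.ext (mul_right_cancel e)]
  · obtain ⟨y, hy, g, e⟩ := mem_H.1 x.2
    exact ⟨(⟨y, hy⟩, g), Subtype.ext e.symm⟩

end Cfsg.Agent.J4B
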