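import Cfsg.Agent.Golay.Sextet
import Cfsg.Agent.Comp.Net

/-! Calculations with the conjugates of an element under an image of `M24`. -/

set_option autoImplicit false

namespace Cfsg.Agent.J4B
open Cfsg Cfsg.Agent.Golay Cfsg.Agent.Comp
open scoped Pointwise

variable {G : Type*} [Group G] (ι : M24 →* G) (z : G)

section
variable {Ω : Type*} [MulAction P24 Ω] (A : Ω)

open Classical in
/-- the conjugate that belongs to `T` -/
noncomputable def cj (T : Ω) : G :=
  if h : ∃ g : M24, g.1 • A = T then ι h.choose * z * (ι h.choose)⁻¹ else 1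

/-- `z` commutes with the stabiliser of `A` -/
def Cen : Prop := ∀ g : M24, g.1 • A = A → ι g * z = z * ι g

variable {ι z A}

theorem Cen.cj_eq (h : Cen ι z A) (g : M24) : cj ι z A (g.1 • A) = ι g * z * (ι g)⁻¹ := by
  have e : ∃ g' : M24, g'.1 • A = g.1 • A := ⟨g, rfl⟩
  have := h (g⁻¹ * e.choose) (by simp [mul_smul, e.choose_spec])
  rw [map_mul, map_inv] at this
  rw [cj, dif_pos e, mul_inv_eq_iff_eq_mul, mul_assoc, mul_assoc, ← this]
  group

theorem Cen.self (h : Cen ι z A) : cj ι z A A = z := by simpa using h.cj_eq 1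

theorem Cen.smul (h : Cen ι z A) (g : M24) (T : Ω) :
    cj ι z A (g.1 • T) = ι g * cj ι z A T * (ι g)⁻¹ := by
  by_cases e : ∃ g' : M24, g'.1 • A = T
  · obtain ⟨g', rfl⟩ := e
    rw [← mul_smul, ← Subgroup.coe_mul, h.cj_eq, h.cj_eq]
    simp [mul_assoc]
  · rw [cj, cj, dif_neg e, dif_neg fun ⟨a, ha⟩ => e ⟨g⁻¹ * a, by simp [mul_smul, ha]⟩]
    simp

theorem cj_sq (hz : z * z = 1) (T : Ω) : cj ι z A T * cj ι z A T = 1 := by
  unfold cj
  split_ifs
  · rw [mul_assoc, mul_assoc, mul_assoc, inv_mul_cancel_left, ← mul_assoc z, hz]; simp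
  · simp

theorem Cen.of_gen {cs : List ℕ} (hg : Gen pc (St M24 A) cs)
    (h : ∀ g : M24, pc g.1 ∈ cs → ι g * z = z * ι g) : Cen ι z A := fun g e => by
  have : St M24 A ≤ ((Subgroup.centralizer {z}).comap ι).map M24.subtype :=
    hg.2.trans ((Subgroup.closure_le _).2 fun a ha => ⟨⟨a, ha.1.1⟩,
      Subgroup.mem_centralizer_singleton_iff.2 (h _ ha.2), rfl⟩)
  obtain ⟨a, ha, e⟩ := this (mem_St.2 ⟨g.2, e⟩)
  rw [← Subtype.ext e]
  exact Subgroup.mem_centralizer_singleton_iff.1 ha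
end

/-- an equivariant family of involutions -/
structure Eqv (c : Finset (Finset GolayPt) → G) : Prop where
  sq : ∀ T, c T * c T = 1
  smul : ∀ (g : M24) T, c (g.1 • T) = ι g * c T * (ι g)⁻¹

/-- a word with coefficient -/
abbrev Wd : Type := List ℕ × ℕ

open Classical in
/-- the element with a given code -/
noncomputable def tm (c : ℕ) : M24 := if h : ∃ g : M24, pc g.1 = c then h.choose else 1

theorem tm_pc (g : M24) : tm (pc g.1) = g := by
  have e : ∃ g' : M24, pc g'.1 = pc g.1 := ⟨g, rfl⟩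
  rw [tm, dif_pos e]; exact Subtype.ext (pc_injective e.choose_spec)

theorem pc_tm {c : ℕ} (h : m24Err c = 0) : pc (tm c).1 = c := by
  obtain ⟨g, hg, rfl⟩ := exists_of_m24Err h
  rw [tm_pc ⟨g, hg⟩]

variable {ι} (k : ℕ) (c : Finset (Finset GolayPt) → G)

/-- all codes are valid -/
def Ok (w : Wd) : Prop := (∀ a ∈ w.1, ∃ T, T.card = k ∧ fc T = a) ∧ ∃ g : M24, pc g.1 = w.2

/-- the product of the letters -/
noncomputable def pw (w : List ℕ) : G := (w.map fun a => c (fd k a)).prod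

/-- a relation -/
def Rl (ι : M24 →* G) (w : Wd) : Prop := Ok k w ∧ pw k c w.1 * ι (tm w.2) = 1

/-- the action on words -/
noncomputable def aw (g : ℕ) (w : List ℕ) : List ℕ := force (mat g) fun m => mapL (actF k m) w

/-- free reduction -/
def red (w : List ℕ) : List ℕ := w.foldr (fun a u => match u with
  | [] => [a]
  | b :: u' => if a = b then u' else a :: b :: u') []

/-- conjugation -/
noncomputable def con (g : ℕ) (r : Wd) : Wd := (aw k g r.1, mul (mul g r.2) (inv g))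
/-- inversion -/
noncomputable def ivr (r : Wd) : Wd := (aw k (inv r.2) r.1.reverse, inv r.2)
/-- rotation -/
noncomputable def rot (r : Wd) : Wd := (r.1.drop 1 ++ aw k r.2 (r.1.take 1), r.2)
/-- insertion of a relation -/
noncomputable def ins (p : ℕ) (r w : Wd) : Wd := force r.2 fun q => force (mul q w.2) fun q' =>
  forceL (w.1.take p ++ r.1 ++ aw k q (w.1.drop p)) fun u => (red u, q')

/-- a step: position, relation, inversion, rotation, conjugating element -/
abbrev Step : Type := ℕ × ℕ × ℕ × ℕ × ℕ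

/-- the relation of a step -/
noncomputable def srel (L : List Wd) (s : Step) : Wd :=
  con k s.2.2.2.2 ((rot k)^[s.2.2.2.1] ((ivr k)^[s.2.2.1] (L.getD s.2.1 ([], one))))

/-- the check of a derivation -/
noncomputable def chk (L : List Wd) : List Step → Wd → Bool
  | [], w => w.1.isEmpty && w.2 == one
  | s :: S, w => m24Err s.2.2.2.2 == 0 && chk L S (ins k s.1 (srel k L s) w)

variable {k c}

attribute [local irreducible] mul inv mat actF

theorem pw_append (u w : List ℕ) : pw k c (u ++ w) = pw k c u * pw k c w := by simp [pw]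

theorem Eqv.aw (h : Eqv ι c) (g : M24) {w : List ℕ} (hw : ∀ a ∈ w, ∃ T, T.card = k ∧ fc T = a) :
    (∀ a ∈ aw k (pc g.1) w, ∃ T, T.card = k ∧ fc T = a) ∧
      pw k c (aw k (pc g.1) w) = ι g * pw k c w * (ι g)⁻¹ := by
  simp only [J4B.aw, force_eq, mapL_eq]
  induction w with
  | nil => simp [pw]
  | cons a w ih =>
    obtain ⟨⟨T, rfl, rfl⟩, h2⟩ := List.forall_mem_cons.1 hw
    obtain ⟨h3, h4⟩ := ih h2
    have e := Finset.card_smul_finset g.1 T
    refine ⟨List.forall_mem_cons.2 ⟨⟨_, e, (actF_pc _ _).symm⟩, h3⟩, ?_⟩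
    rw [pw] at h4
    rw [pw, List.map_cons, List.map_cons, List.prod_cons, h4, actF_pc, pw, pw, List.map_cons,
      List.prod_cons, fd_fc]
    nth_rewrite 1 [← e]
    rw [fd_fc, h.smul]
    simp [mul_assoc]

theorem Eqv.red (h : Eqv ι c) (w : List ℕ) :
    (∀ a ∈ red w, a ∈ w) ∧ pw k c (red w) = pw k c w := by
  induction w with
  | nil => exact ⟨nofun, rfl⟩
  | cons a w ih =>
    have e : pw k c (a :: w) = c (fd k a) * pw k c (J4B.red w) := by rw [ih.2]; simp [pw]
    have h1 := ih.1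
    rw [e, J4B.red, List.foldr_cons, ← J4B.red]
    revert h1
    cases J4B.red w with
    | nil => intro; simp [pw]
    | cons b u =>
      intro h1
      dsimp only
      split_ifs with q
      · exact ⟨fun x hx => List.mem_cons_of_mem _ (h1 x (List.mem_cons_of_mem _ hx)), by
          simp [pw, q, ← mul_assoc, h.sq]⟩
      · exact ⟨List.forall_mem_cons.2 ⟨List.mem_cons_self, fun x hx =>
          List.mem_cons_of_mem _ (h1 x hx)⟩, by simp [pw]⟩

theorem Eqv.con (h : Eqv ι c) (g : M24) {r : Wd} (hr : Rl k c ι r) :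
    Rl k c ι (con k (pc g.1) r) := by
  obtain ⟨⟨h1, p, e⟩, h2⟩ := hr
  have := h.aw g h1
  have e2 : mul (mul (pc g.1) r.2) (inv (pc g.1)) = pc (g * p * g⁻¹ : M24).1 := by
    rw [← e, mul_pc, inv_pc, mul_pc]; rfl
  refine ⟨⟨this.1, _, e2.symm⟩, ?_⟩
  rw [← e, tm_pc] at h2
  simp only [J4B.con, this.2, e2, tm_pc, map_mul, map_inv]
  rw [eq_inv_of_mul_eq_one_left h2]
  group

theorem Eqv.rev (h : Eqv ι c) (w : List ℕ) : pw k c w.reverse = (pw k c w)⁻¹ := by
  rw [pw, pw, List.prod_inv_reverse, List.map_reverse, List.map_map]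
  exact congrArg (fun l : List G => l.reverse.prod)
    (List.map_congr_left fun a _ => eq_inv_of_mul_eq_one_left (h.sq _))

theorem Eqv.ivr (h : Eqv ι c) {r : Wd} (hr : Rl k c ι r) : Rl k c ι (ivr k r) := by
  obtain ⟨⟨h1, p, e⟩, h2⟩ := hr
  have e2 : inv r.2 = pc (p⁻¹ : M24).1 := by rw [← e, inv_pc]; rfl
  have := h.aw p⁻¹ (w := r.1.reverse) (by simpa using h1)
  refine ⟨⟨by rw [J4B.ivr, e2]; exact this.1, _, e2.symm⟩, ?_⟩
  rw [← e, tm_pc] at h2
  simp only [J4B.ivr, e2, this.2, tm_pc, h.rev, eq_inv_of_mul_eq_one_left h2]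
  simp

theorem Eqv.rot (h : Eqv ι c) {r : Wd} (hr : Rl k c ι r) : Rl k c ι (rot k r) := by
  obtain ⟨⟨h1, p, e⟩, h2⟩ := hr
  have := h.aw p (w := r.1.take 1) fun a ha => h1 a (List.mem_of_mem_take ha)
  refine ⟨⟨List.forall_mem_append.2 ⟨fun a ha => h1 a (List.mem_of_mem_drop ha), e ▸ this.1⟩,
    p, e⟩, ?_⟩
  rw [← List.take_append_drop 1 r.1, pw_append, ← e, tm_pc, mul_assoc, mul_eq_one_comm] at h2
  simp only [J4B.rot, pw_append, ← e, this.2, tm_pc]
  simpa [mul_assoc] using h2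

theorem Eqv.ins (h : Eqv ι c) (p : ℕ) {r w : Wd} (hr : Rl k c ι r) (hw : Ok k w) :
    Ok k (ins k p r w) ∧ pw k c (ins k p r w).1 * ι (tm (ins k p r w).2) =
      pw k c w.1 * ι (tm w.2) := by
  obtain ⟨⟨h1, q, e⟩, h2⟩ := hr
  obtain ⟨h3, q', e'⟩ := hw
  have := h.aw q (w := w.1.drop p) fun a ha => h3 a (List.mem_of_mem_drop ha)
  have e2 : mul r.2 w.2 = pc (q * q' : M24).1 := by rw [← e, ← e', mul_pc]; rfl
  simp only [J4B.ins, force_eq, forceL_eq]
  refine ⟨⟨fun a ha => ?_, _, e2.symm⟩, ?_⟩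
  · exact List.forall_mem_append.2 ⟨List.forall_mem_append.2
      ⟨fun a ha => h3 a (List.mem_of_mem_take ha), h1⟩, e ▸ this.1⟩ a ((h.red (k := k) _).1 a ha)
  · rw [← e, tm_pc] at h2
    rw [(h.red _).2, e2, pw_append, pw_append, ← e, this.2, ← e', tm_pc, tm_pc,
      eq_inv_of_mul_eq_one_left h2]
    have e3 := pw_append (k := k) (c := c) (w.1.take p) (w.1.drop p)
    rw [List.take_append_drop] at e3
    simp [e3, mul_assoc]

theorem rl_nil : Rl k c ι ([], one) :=
  ⟨⟨nofun, 1, pc_one⟩, by rw [← pc_one, ← M24.coe_one, tm_pc]; simp [pw]⟩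

theorem Eqv.chk (h : Eqv ι c) {L : List Wd} (hL : ∀ r ∈ L, Rl k c ι r) (S : List Step) {w : Wd}
    (hw : Ok k w) (hc : chk k L S w = true) : Rl k c ι w := by
  induction S generalizing w with
  | nil =>
    simp only [J4B.chk, Bool.and_eq_true, List.isEmpty_iff, beq_iff_eq] at hc
    rw [show w = ([], one) from Prod.ext hc.1 hc.2]
    exact rl_nil
  | cons s S ih =>
    simp only [J4B.chk, Bool.and_eq_true, beq_iff_eq] at hc
    have h0 : Rl k c ι (L.getD s.2.1 ([], one)) := by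
      rcases nth_mem ([], one) L s.2.1 with e | e <;> rw [nth_eq] at e
      exacts [by rw [e]; exact rl_nil, hL _ e]
    have h1 : Rl k c ι (srel k L s) := by
      rw [srel, ← pc_tm hc.1]
      exact h.con _ (Function.Iterate.rec _ (Function.Iterate.rec _ h0
        (fun _ => h.ivr) _) (fun _ => h.rot) _)
    have h2 := h.ins s.1 h1 hw
    exact ⟨hw, h2.2 ▸ (ih h2.1 hc.2).2⟩

theorem ok_of {w : Wd} (h : (∀ a ∈ w.1, FOk k a) ∧ m24Err w.2 = 0) : Ok k w :=
  ⟨fun a ha => ⟨_, (h.1 a ha).card, (h.1 a ha).fc_fd⟩, _, pc_tm h.2⟩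

/-- the check of a list of derivations -/
noncomputable def chkA (k : ℕ) : List Wd → List (Wd × List Step) → Bool
  | _, [] => true
  | L, d :: D => decide ((∀ a ∈ d.1.1, FOk k a) ∧ m24Err d.1.2 = 0) && chk k L d.2 d.1 &&
      chkA k (L ++ [d.1]) D

theorem Eqv.ders (h : Eqv ι c) {L : List Wd} (hL : ∀ r ∈ L, Rl k c ι r)
    {D : List (Wd × List Step)} (hc : chkA k L D = true) : ∀ r ∈ D.map Prod.fst, Rl k c ι r := by
  induction D generalizing L with
  | nil => nofun
  | cons d D ih =>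
    simp only [chkA, Bool.and_eq_true, decide_eq_true_eq] at hc
    have := h.chk hL _ (ok_of hc.1.1) hc.1.2
    exact List.forall_mem_cons.2 ⟨this, ih (List.forall_mem_append.2
      ⟨hL, List.forall_mem_singleton.2 this⟩) hc.2⟩

theorem tm_one : tm one = 1 := by rw [← pc_one, ← M24.coe_one, tm_pc]

theorem Eqv.comm (h : Eqv ι c) (g : M24) {w : List ℕ} (hw : ∀ a ∈ w, FOk k a)
    (hr : Rl k c ι (J4B.aw k (pc g.1) w ++ w.reverse, one)) :
    ι g * pw k c w = pw k c w * ι g := by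
  have := hr.2
  rw [pw_append, tm_one, map_one, mul_one, h.rev,
    (h.aw g (ok_of (w := (w, one)) ⟨hw, show m24Err one = 0 by decide +kernel⟩).1).2,
    mul_inv_eq_one] at this
  exact mul_inv_eq_iff_eq_mul.1 this

end Cfsg.Agent.J4B
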