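import Cfsg.Agent.Comp.J4.Simple
import Cfsg.Agent.Golay.FixSet

/-! The normal subgroup of order `2 ^ 11` is weakly closed. -/

set_option autoImplicit false

namespace Cfsg.Agent.J4B
open Cfsg Cfsg.Agent.Golay Cfsg.Agent.Comp
open Cfsg.Agent.Comp.J4 (s io H)
open scoped Pointwise

open Classical in
/-- the projection -/
noncomputable def pj (x : J) : M24 := if h : ∃ g : M24, x * (io g)⁻¹ ∈ VV then h.choose else 1

theorem pj_eq {y : J} (hy : y ∈ VV) (g : M24) : pj (y * io g) = g := by
  have e : ∃ k : M24, y * io g * (io k)⁻¹ ∈ VV := ⟨g, by simpa using hy⟩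
  have := e.choose_spec
  rw [mul_assoc, VV.mul_mem_cancel_left hy, ← map_inv, ← map_mul] at this
  rw [pj, dif_pos e]
  exact (mul_inv_eq_one.1 (eq_one_of_mem this)).symm

theorem pj_spec {x : J} (h : x ∈ H) : x * (io (pj x))⁻¹ ∈ VV := by
  obtain ⟨y, hy, g, rfl⟩ := mem_H.1 h
  simpa [pj_eq hy] using hy

/-- the projection -/
noncomputable def pH : H →* M24 := MonoidHom.mk' (fun x => pj x) fun a b => by
  obtain ⟨y, hy, g, e⟩ := mem_H.1 a.2
  obtain ⟨y', hy', g', e'⟩ := mem_H.1 b.2
  rw [Subgroup.coe_mul, e, e', pj_eq hy, pj_eq hy', ← pj_eq (VV.mul_mem hy (VV_conj g hy')) (g * g'),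
    map_mul]
  congr 1; group

theorem pj_eq_one {x : J} (h : x ∈ H) : pj x = 1 ↔ x ∈ VV :=
  ⟨fun e => by simpa [e] using pj_spec h, fun e => by simpa using pj_eq e 1⟩

theorem conj_nu {x : J} (h : x ∈ H) {a : Finset GolayPt} (ha : Even a.card) :
    x * nu a * x⁻¹ = nu ((pj x).1 • a) := by
  obtain ⟨y, hy, g, rfl⟩ := mem_H.1 h
  rw [pj_eq hy, show y * io g * nu a * (y * io g)⁻¹ = y * (io g * nu a * (io g)⁻¹) * y⁻¹ by group,
    ← nu_smul g ha, VV_comm hy (nu_mem _), mul_inv_cancel_right]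

theorem mem_of_comm {x : J} (h : x ∈ H) {a : Finset GolayPt} (ha : Even a.card)
    (e : x * nu a = nu a * x) : symmDiff ((pj x).1 • a) a ∈ CW := by
  rw [← nu_eq_one (even_symmDiff (by rwa [Finset.card_smul_finset]) ha), nu_symmDiff,
    ← conj_nu h ha, e, mul_inv_cancel_right, nu_sq]

theorem eq_of_small {a b : Finset GolayPt} (h : symmDiff a b ∈ CW) (h2 : a.card + b.card < 8) :
    a = b := by
  have h3 := card_symmDiff_add a b
  have h4 := card_of_mem_CW h
  exact symmDiff_eq_bot.1 (Finset.card_eq_zero.1 (by omega))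

theorem nu_pair (x y : GolayPt) : nu (symmDiff {x} {y}) = D x y := by
  rw [nu_symmDiff, ← D_eq, ← insert_empty_eq, ← insert_empty_eq y, nu_insert (by simp),
    nu_insert (by simp), nu_empty, mul_one, mul_one]

theorem card_pair_le (x y : GolayPt) : (symmDiff {x} {y} : Finset GolayPt).card ≤ 2 := by
  have := card_symmDiff_add {x} {y}
  simp only [Finset.card_singleton] at this
  omega

theorem even_pair (x y : GolayPt) : Even (symmDiff {x} {y} : Finset GolayPt).card := by
  have := card_symmDiff_add {x} {y}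
  simp only [Finset.card_singleton] at this
  rw [Nat.even_iff]; omega

theorem smul_pair (g : P24) (x y : GolayPt) :
    g • (symmDiff {x} {y} : Finset GolayPt) = symmDiff {g x} {g y} := by
  rw [Finset.smul_finset_symmDiff, Finset.smul_finset_singleton, Finset.smul_finset_singleton]; rfl

theorem card_moved {g : M24} (h : g ≠ 1) : 16 ≤ (Fx g.1)ᶜ.card := by
  have : ¬ 9 ≤ (Fx g.1).card := fun e => h (Subtype.ext (eq_one_of_nine g.2 e))
  rw [Finset.card_compl, card_golayPt]; omega

theorem ncard_two {α : Type*} (a b : α) : ({a, b} : Set α).ncard ≤ 2 :=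
  (Set.ncard_insert_le _ _).trans (by simp)

theorem small {B : Subgroup M24} (hB : ∀ g ∈ B, ∀ k ∈ B, ∀ x y, g.1 x = x →
    k.1 y = y ∨ k.1 y = g.1 y ∨ g.1 y = y) {g : M24} (hg : g ∈ B) (h1 : g ≠ 1) {x : GolayPt}
    (hx : g.1 x = x) : Nat.card B ≤ 4 := by
  classical
  obtain ⟨y, hy⟩ := Finset.card_pos.1 (lt_of_lt_of_le (by norm_num) (card_moved h1))
  rw [Finset.mem_compl, mem_Fx] at hy
  have h2 : Nat.card (MulAction.orbit B y) ≤ 2 := by
    refine (Set.ncard_le_ncard (t := {y, g.1 y}) ?_).trans (ncard_two _ _)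
    rintro _ ⟨k, rfl⟩
    exact (hB g hg k k.2 x y hx).imp_right (·.resolve_right hy)
  have h3 : Nat.card (MulAction.stabilizer B y) ≤ 2 := by
    by_contra c
    have := Finite.one_lt_card_iff_nontrivial.1 (show 1 < Nat.card (MulAction.stabilizer B y) by omega)
    obtain ⟨u, hu⟩ := exists_ne (1 : MulAction.stabilizer B y)
    obtain ⟨w, -, hw⟩ := Set.exists_mem_notMem_of_ncard_lt_ncard (s := {1, u}) (t := Set.univ)
      ((ncard_two _ _).trans_lt (by rw [Set.ncard_univ]; omega))
    simp only [Set.mem_insert_iff, Set.mem_singleton_iff, not_or] at hw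
    have e1 := card_moved (g := u.1.1) fun e => hu (Subtype.ext (Subtype.ext e))
    have e2 := card_moved (g := w.1.1) fun e => hw.1 (Subtype.ext (Subtype.ext e))
    have e3 := card_moved (g := u.1.1⁻¹ * w.1.1) fun e =>
      hw.2 (Subtype.ext (Subtype.ext (inv_mul_eq_one.1 e).symm))
    have e4 : (Fx u.1.1.1)ᶜ ⊆ (Fx w.1.1.1).erase y ∪ Fx (u.1.1⁻¹ * w.1.1).1 := fun p hp => by
      rw [Finset.mem_compl, mem_Fx] at hp
      rcases hB _ u.1.2 _ w.1.2 y p u.2 with e | e | e
      · exact Finset.mem_union_left _ (Finset.mem_erase.2 ⟨fun q => hp (q ▸ u.2), mem_Fx.2 e⟩)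
      · exact Finset.mem_union_right _ (mem_Fx.2 (by simp [e]))
      · exact absurd e hp
    have e5 := (Finset.card_le_card e4).trans (Finset.card_union_le _ _)
    rw [Finset.card_erase_of_mem (mem_Fx.2 w.2)] at e5
    rw [Finset.card_compl, card_golayPt] at e2 e3
    omega
  rw [← Nat.card_congr (MulAction.orbitProdStabilizerEquivGroup B y), Nat.card_prod]
  nlinarith

theorem off {A : Subgroup J} (hA : A ≤ H) (hc : ∀ a ∈ A, ∀ b ∈ A, a * b = b * a)
    (hn : ∀ x ∈ VV, ∀ a ∈ A, x * a * x⁻¹ ∈ A) (h : Nat.card A = 2048) : A = VV := by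
  classical
  let f : A →* M24 := pH.comp (Subgroup.inclusion hA)
  have h1 : Nat.card (A ⊓ VV : Subgroup J) * Nat.card f.range = 2048 := by
    rw [← h, ← f.ker.card_mul_index, Subgroup.index_ker,
      ← Nat.card_congr (Subgroup.subgroupOfEquivOfLe inf_le_left).toEquiv]
    congr 3
    ext a
    simpa [Subgroup.mem_subgroupOf] using (pj_eq_one (hA a.2)).symm.trans (show _ ↔ f a = 1 from Iff.rfl)
  have h2 : (A.subgroupOf VV).index = Nat.card f.range := by
    have := (A.subgroupOf VV).card_mul_index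
    rw [card_VV, ← h1, ← Subgroup.inf_subgroupOf_right,
      Nat.card_congr (Subgroup.subgroupOfEquivOfLe inf_le_right).toEquiv] at this
    rw [← Subgroup.inf_subgroupOf_right]
    exact Nat.eq_of_mul_eq_mul_left Nat.card_pos this
  by_cases hb : ∀ a : A, f a = 1
  · exact Subgroup.eq_of_le_of_card_ge (fun a ha => (pj_eq_one (hA ha)).1 (hb ⟨a, ha⟩))
      (by rw [h, card_VV])
  exfalso
  obtain ⟨a, ha⟩ := not_forall.1 hb
  have h3 : ∀ a : A, f a ≠ 1 → (Fx (f a).1)ᶜ.card ≤ 2 * Nat.card f.range := fun a ha => by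
    let q : GolayPt → VV ⧸ A.subgroupOf VV := fun x => (⟨nu {x}, nu_mem _⟩ : VV)
    have := Fintype.ofFinite (VV ⧸ A.subgroupOf VV)
    refine (Finset.card_le_mul_card_image (f := q) _ 2 fun y hy => ?_).trans (Nat.mul_le_mul_left _
      (by rw [← h2, Subgroup.index, Nat.card_eq_fintype_card]; exact Finset.card_le_univ _))
    obtain ⟨x, hx, rfl⟩ := Finset.mem_image.1 hy
    rw [Finset.mem_compl, mem_Fx] at hx
    refine (Finset.card_le_card (t := {x, (f a).1 x}) fun y hy => ?_).trans Finset.card_le_two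
    have e := QuotientGroup.eq.1 (Finset.mem_filter.1 hy).2
    rw [Subgroup.mem_subgroupOf, Subgroup.coe_mul, Subgroup.coe_inv,
      inv_eq_of_mul_eq_one_right (nu_sq _), ← nu_symmDiff] at e
    have e1 := eq_of_small (mem_of_comm (hA a.2) (even_pair y x) (hc _ a.2 _ e)) (by
      have := card_pair_le y x
      rw [Finset.card_smul_finset]; omega)
    rw [smul_pair] at e1
    have e2 : (pj a).1 y = (pj a).1 x → y = x := fun e => (pj a).1.injective e
    have := Finset.ext_iff.1 e1 y
    change (pj a).1 x ≠ x at hx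
    change y ∈ {x, (pj a).1 x}
    have := Finset.ext_iff.1 e1 x
    have := Finset.ext_iff.1 e1 ((pj a).1 x)
    grind [Finset.mem_symmDiff]
  by_cases hf : ∀ g : f.range, g ≠ 1 → ∀ x, g.1.1 x ≠ x
  · have h4 := Nat.card_congr (MulAction.selfEquivOrbitsQuotientProd (G := f.range) (X := GolayPt)
      fun x => eq_bot_iff.2 fun g hg => by_contra fun e => hf g e x hg)
    have h5 := h3 a ha
    rw [show Fx (f a).1 = ∅ from Finset.filter_eq_empty_iff.2 fun x _ =>
      hf ⟨_, a, rfl⟩ (fun e => ha (congrArg Subtype.val e)) x, Finset.compl_empty, Finset.card_univ,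
      card_golayPt] at h5
    rw [Nat.card_prod, Nat.card_eq_fintype_card, card_golayPt] at h4
    have := Nat.le_of_dvd (by norm_num) (Nat.dvd_gcd (Dvd.intro_left _ h4.symm) (Dvd.intro_left _ h1))
    rw [show Nat.gcd 24 2048 = 8 by norm_num] at this
    omega
  · push Not at hf
    obtain ⟨⟨_, b, rfl⟩, h4, x, hx⟩ := hf
    have h5 : f b ≠ 1 := fun e => h4 (Subtype.ext e)
    have h6 := small (B := f.range) ?_ ⟨b, rfl⟩ h5 hx
    · have := (card_moved h5).trans (h3 b h5)
      omega
    rintro _ ⟨g, rfl⟩ _ ⟨k, rfl⟩ x y hx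
    have e : nu (symmDiff {(pj g).1 y} {y}) ∈ A := by
      have := A.mul_mem g.2 (hn _ (nu_mem (symmDiff {x} {y})) _ (A.inv_mem g.2))
      rw [← mul_assoc, ← mul_assoc, conj_nu (hA g.2) (even_pair _ _),
        inv_eq_of_mul_eq_one_right (nu_sq _), ← nu_symmDiff, smul_pair,
        show (pj g).1 x = x from hx] at this
      convert this using 2
      grind [Finset.mem_symmDiff]
    have e1 := eq_of_small (mem_of_comm (hA k.2) (even_pair _ _) (hc _ k.2 _ e)) (by
      have := card_pair_le ((pj g).1 y) y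
      rw [Finset.card_smul_finset]; omega)
    rw [smul_pair] at e1
    have e2 : (pj k).1 ((pj g).1 y) = (pj k).1 y → (pj g).1 y = y := fun e => (pj k).1.injective e
    have := Finset.ext_iff.1 e1 ((pj k).1 y)
    change (pj k).1 y = y ∨ (pj k).1 y = (pj g).1 y ∨ (pj g).1 y = y
    grind [Finset.mem_symmDiff]

end Cfsg.Agent.J4B
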