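import Cfsg.Agent.J4B.OutA
import Cfsg.Agent.Golay.Cent

/-! Complements and fixed cosets. -/

set_option autoImplicit false
set_option maxRecDepth 100000

namespace Cfsg.Agent.J4B
open Cfsg Cfsg.Agent.Golay Cfsg.Agent.Comp
open Cfsg.Agent.Comp.J4 (s io H cs cs_eq cs_mul wd sz closed)
open scoped Pointwise

theorem pj_io (g : M24) : pj (io g) = g := by simpa using pj_eq VV.one_mem g

theorem nu_congr {a b : Finset GolayPt} (h : symmDiff a b ∈ CW) : nu a = nu b := by
  rw [← mul_left_inj (nu b), ← nu_symmDiff, nu_CW h, nu_sq]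

theorem rep {x : J} (h : x ∈ VV) : ∃ j < 4096, Even (um (4096 * j)).card ∧ x = nu (um (4096 * j)) := by
  obtain ⟨a, rfl⟩ := h
  obtain ⟨a, ha, e, -⟩ := exists_even a
  set b := symmDiff a (um (cw (mk a % 4096))) with hb
  have h2 : mk b % 4096 = 0 := by
    rw [hb, mk_symmDiff, mk_um (cw_lt _), show 4096 = 2 ^ 12 by norm_num, Nat.xor_eq,
      Nat.xor_mod_two_pow, show 2 ^ 12 = 4096 by norm_num,
      cw_low _ (Nat.mod_lt _ (by norm_num)), Nat.xor_self]
  have h3 := mk_lt b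
  refine ⟨mk b / 4096, by omega, ?_⟩
  rw [show 4096 * (mk b / 4096) = mk b by omega, um_mk, ← e, hb, nu_symmDiff, nu_CW (um_cw_mem _),
    mul_one]
  refine ⟨even_symmDiff ha ?_, rfl⟩
  have := card_of_mem_CW (um_cw_mem (mk a % 4096))
  rw [Nat.even_iff]; omega

/-- the test for a fixed class -/
noncomputable def fixd (G m : ℕ) : ℕ := syn (Nat.xor (act G m) m)

theorem fixd_iff (g : M24) {m : ℕ} (h : m < 2 ^ 24) :
    fixd (mat (pc g.1)) m = 0 ↔ symmDiff (g.1 • um m) (um m) ∈ CW := by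
  rw [mem_CW_iff_syn, mk_symmDiff, ← act_pc, mk_um h, fixd]

/-- the test for an even fixed class -/
noncomputable def tst (M : List ℕ) (m : ℕ) : ℕ :=
  isZ (Nat.add (pop 24 m % 2) (sumL (fun G => fixd G m) M))

theorem tst_ne {L : List ℕ} {m : ℕ} (h2 : m < 2 ^ 24) (h1 : Even (um m).card)
    (hc : ∀ c ∈ L, ∃ y ∈ H, pc (pj y).1 = c ∧ y * nu (um m) = nu (um m) * y) :
    tst (mapL mat L) m ≠ 0 := fun q => by
  rw [tst, isZ_eq_zero_iff, Ne, add_eq_zero_iff', ← card_um h2, ← Nat.even_iff] at q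
  refine q ⟨h1, ?_⟩
  rw [sumL_eq, List.sum_eq_zero_iff, mapL_eq]
  refine List.forall_mem_map.2 (List.forall_mem_map.2 fun c q => ?_)
  obtain ⟨y, hy, rfl, e⟩ := hc c q
  exact (fixd_iff _ h2).2 (mem_of_comm hy h1 e)

theorem enum {L : List ℕ} {e : ℕ → ℕ} (h : forceL (mapL mat L) (fun M => sumBig (fun j =>
    Nat.mul (force (4096 * j) (tst M)) (e j)) 4096) = 0) {x : J} (hx : x ∈ VV)
    (hc : ∀ c ∈ L, ∃ y ∈ H, pc (pj y).1 = c ∧ y * x = x * y) :
    ∃ j < 4096, e j = 0 ∧ x = nu (um (4096 * j)) := by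
  obtain ⟨j, hj, h1, rfl⟩ := rep hx
  rw [forceL_eq] at h
  have := mul_eq_zero_iff'.1 (sumBig_eq_zero h j hj)
  rw [force_eq] at this
  exact ⟨j, hj, this.resolve_left (tst_ne (by omega) h1 hc), rfl⟩

theorem pcX : pc (J4A.t 0).1 = J4A.cX := pc_tp_of_m24Err (by decide +kernel)
theorem pcY : pc (J4A.t 1).1 = J4A.cY := pc_tp_of_m24Err (by decide +kernel)

/-- the coboundary -/
def co (g : M24) (u : Finset GolayPt) : Finset GolayPt := symmDiff (g.1 • u) u

theorem even_co (g : M24) (u : Finset GolayPt) : Even (co g u).card := by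
  have := card_symmDiff_add (g.1 • u) u
  rw [Finset.card_smul_finset] at this
  rw [Nat.even_iff, co]; omega

theorem co_add (g : M24) (u w : Finset GolayPt) :
    nu (co g (symmDiff u w)) = nu (co g u) * nu (co g w) := by
  rw [← nu_symmDiff, co, co, co, Finset.smul_finset_symmDiff, symmDiff_symmDiff_symmDiff_comm]

/-- the complement that belongs to a set of points -/
noncomputable def iu (u : Finset GolayPt) : M24 →* J :=
  MonoidHom.mk' (fun g => nu (co g u) * io g) fun g k => by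
    rw [show co (g * k) u = symmDiff (co g u) (g.1 • co k u) by
      rw [co, co, co, Finset.smul_finset_symmDiff, symmDiff_comm (g.1 • u), symmDiff_assoc,
        symmDiff_comm (g.1 • k.1 • u), symmDiff_symmDiff_cancel_left, symmDiff_comm, ← mul_smul]; rfl,
      nu_symmDiff, nu_smul g (even_co _ _), map_mul]
    group

theorem iu_apply (u : Finset GolayPt) (g : M24) : iu u g = nu (co g u) * io g := rfl

theorem exists_iu {φ : M24 →* J} (h : ∀ g, φ g * (io g)⁻¹ ∈ VV) : ∃ u, φ = iu u := by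
  have q : ∀ g, ∃ a : Finset GolayPt, Even a.card ∧ φ g = nu a * io g := fun g => by
    obtain ⟨a, e⟩ := h g
    obtain ⟨b, h1, h2, -⟩ := exists_even a
    exact ⟨b, h1, by rw [h2, e, inv_mul_cancel_right]⟩
  obtain ⟨a, ha, e1⟩ := q (J4A.t 0)
  obtain ⟨b, hb, e2⟩ := q (J4A.t 1)
  have x2 : J4A.t 0 * J4A.t 0 = 1 := by simpa using J4A.sat_t [0, 0] (by decide)
  have y3 : J4A.t 1 * (J4A.t 1 * J4A.t 1) = 1 := by simpa using J4A.sat_t [1, 1, 1] (by decide)
  have h1 : nu (co (J4A.t 1) ((J4A.t 1).1 • b)) = nu b := by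
    have := congrArg φ y3
    rw [map_mul, map_mul, e2, map_one, ← nu_sq b, mul_assoc, mul_right_inj] at this
    rw [co, nu_symmDiff, nu_comm, nu_smul _ (s := _ • b) (by rwa [Finset.card_smul_finset]),
      nu_smul _ hb]
    nth_rw 3 [← this]
    rw [← map_inv, inv_eq_of_mul_eq_one_right y3, map_mul]
    have := congrArg io y3
    rw [map_mul, map_mul, map_one] at this
    calc _ = io (J4A.t 1) * nu b * (io (J4A.t 1) * (io (J4A.t 1) * io (J4A.t 1))) * io (J4A.t 1) *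
        nu b * (io (J4A.t 1) * (io (J4A.t 1) * io (J4A.t 1))) * io (J4A.t 1) := by group
      _ = _ := by rw [this]; group
  have h2 : ∀ c, nu c * io (J4A.t 0) * (nu c * io (J4A.t 0)) = 1 →
      Commute (io (J4A.t 0)) (nu c) := fun c e => by
    rw [← nu_sq c, mul_assoc, mul_right_inj] at e
    rw [Commute, SemiconjBy, ← mul_left_inj (io (J4A.t 0)), mul_assoc, e, mul_assoc, ← map_mul, x2,
      map_one, mul_one]
  obtain ⟨j, hj, h3, h4⟩ := enum (L := [J4A.cX]) (e := fun j => force (xorComb (nthL 0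
    [0, 0, 0, 11022336, 0, 0, 0, 8626176, 9412608, 10825728, 2265088, 4255744]) 12 j) fun u =>
    Nat.add (Nat.add (Nat.shiftRight u 24) (fixd (mat J4A.cY) u))
      (syn (Nat.xor (Nat.xor (act (mat J4A.cX) u) u) (4096 * j)))) (by decide +kernel)
    (VV.mul_mem (nu_mem (co (J4A.t 0) ((J4A.t 1).1 • b))) (nu_mem a))
    (List.forall_mem_singleton.2 ⟨_, io_mem (J4A.t 0), by rw [pj_io]; exact pcX,
      (h2 _ (by rw [← iu_apply, ← map_mul, x2, map_one])).mul_right
        (h2 _ (by rw [← e1, ← map_mul, x2, map_one]))⟩)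
  rw [force_eq, add_eq_zero_iff', add_eq_zero_iff'] at h3
  generalize xorComb _ 12 j = u at h3
  have h5 : u < 2 ^ 24 := (Nat.div_eq_zero_iff.1 ((Nat.shiftRight_eq_div_pow _ _).symm.trans
    h3.1.1)).resolve_left (by norm_num)
  have h6 : ∀ g ∈ [J4A.t 0, J4A.t 1], φ g = iu (symmDiff ((J4A.t 1).1 • b) (um u)) g := by
    simp only [List.forall_mem_cons, iu_apply, co_add, e1, e2, mul_left_inj]
    refine ⟨?_, ?_, nofun⟩
    · rw [nu_congr (a := co _ (um u)) (b := um (4096 * j)), ← h4, ← mul_assoc, nu_sq, one_mul]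
      rw [mem_CW_iff_syn, mk_symmDiff, co, mk_symmDiff, ← act_pc, mk_um h5, mk_um (by omega)]
      exact pcX ▸ h3.2
    · rw [h1, nu_CW (s := co _ (um u)) ((fixd_iff _ h5).1 (pcY ▸ h3.1.2)), mul_one]
  refine ⟨symmDiff ((J4A.t 1).1 • b) (um u), MonoidHom.eq_of_eqOn_top fun x hx =>
    (gen_le (K := MonoidHom.eqLocus _ _)).2 (fun a ha => ?_) (J4A.gen_t ▸ hx)⟩
  interval_cases a
  exacts [h6 _ (by simp), h6 _ (by simp), inv_mem (h6 (J4A.t 1) (by simp))]

theorem mem_T {c : ℕ} (h : m24Err c = 0 ∧ Nat.xor (actF 3 (mat c) cA) cA = 0) : (tm c).1 • A0 = A0 :=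
  fixTest_fd cA_ok.1 _ (tm c).2 (by rw [pc_tm h.1]; exact h.2)

theorem cen_T {x : J} (h : x ∈ H) (hc : ∀ g : M24, g.1 • A0 = A0 → io g * x = x * io g) : x = 1 := by
  obtain ⟨y, hy, k, rfl⟩ := mem_H.1 h
  have h1 : k = 1 := by
    refine Subtype.ext (eq_one_of_nine k.2 ?_)
    refine le_trans (by decide +kernel) (Finset.card_le_card (s := um 511) fun p hp => ?_)
    obtain ⟨c, h2, h3⟩ := (by decide +kernel : ∀ p ∈ um 511, ∃ c ∈ [0x204aa40de95b4cea4a75808f7b4580, 0x415e0bc1749c4e91919613a465542d, 0x7ddcd550eb656d2400d124073488a1, 0x9a6e51008f846a80b9b262ec619d54, 0xaa68079dd699a0888d976aa4409562, 0x8a80e40ee758826b32159d0b2691e9, 0xaa6907cc963a8080adb76184e89472, 0x70e61419e058a2ab36053dd2c91295, 0x71a01012895357115e682b2b2b0de7],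
      (m24Err c = 0 ∧ Nat.xor (actF 3 (mat c) cA) cA = 0) ∧ um (fxm c) = {p}) p hp
    have e := congrArg pH (Subtype.ext (hc _ (mem_T h3.1)) :
      (⟨_, io_mem (tm c)⟩ * ⟨_, h⟩ : H) = ⟨_, h⟩ * ⟨_, io_mem (tm c)⟩)
    rw [map_mul, map_mul] at e
    change pj _ * pj _ = pj _ * pj _ at e
    rw [pj_io, pj_eq hy] at e
    have e2 := (Fx_eq_um (pc_tm h3.1.1) rfl).trans h3.2
    have e3 := mem_Fx.1 (e2 ▸ Finset.mem_singleton_self p)
    rw [mem_Fx, ← Finset.mem_singleton, ← e2, mem_Fx, ← Equiv.Perm.mul_apply, ← Subgroup.coe_mul, e,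
      Subgroup.coe_mul, Equiv.Perm.mul_apply, e3]
  rw [h1, map_one, mul_one] at hc ⊢
  obtain ⟨j, -, rfl, e⟩ := enum (L := [J4A.evc [0], J4A.evc wL]) (e := id) (by decide +kernel) hy
    fun c q => by
      have := (by decide +kernel : ∀ c ∈ [J4A.evc [0], J4A.evc wL],
        m24Err c = 0 ∧ Nat.xor (actF 3 (mat c) cA) cA = 0) c q
      exact ⟨_, io_mem (tm c), by rw [pj_io, pc_tm this.1], hc _ (mem_T this)⟩
  rw [e, um_zero, nu_empty]

/-- the stabiliser of a coset -/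
noncomputable def stc (x : J) : Subgroup M24 := (H.comap (MulAut.conj x).toMonoidHom).comap io

theorem mem_stc {x : J} {g : M24} : g ∈ stc x ↔ x * io g * x⁻¹ ∈ H := Iff.rfl

theorem index_stc {x : J} {i : ℕ} (hi : i < 20) {k : M24} (h : cs H x = cs H (wd s i * io k)) :
    (stc x).index = sz.getD i 0 := by
  have h1 := J4.count {y | ∃ g, y = cs H (x * io g)} (· = i) fun j hj g => by
    refine ⟨fun ⟨g', e⟩ => by_contra fun c => ?_, fun e =>
      ⟨k⁻¹ * g, by rw [J4.cs_congr h, e, mul_assoc, ← map_mul, mul_inv_cancel_left]⟩⟩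
    obtain ⟨v, ⟨f, h1, -⟩, h2⟩ := J4.fn_sz i hi
    have h3 := h1 j hj g
    rw [e, J4.cs_congr h, mul_assoc, ← map_mul, h1 i hi, h2 i hi, h2 j hj, if_pos rfl,
      if_neg (Ne.symm c)] at h3
    exact absurd h3 (by decide)
  rw [Finset.sum_ite_eq', if_pos (Finset.mem_range.2 hi)] at h1
  let := MulAction.compHom (J ⧸ H) io
  rw [← h1, show stc x = MulAction.stabilizer M24 (cs H x) from ?_, MulAction.index_stabilizer]
  · congr 1
    ext y
    exact ⟨fun ⟨g, e⟩ => ⟨g⁻¹, by rw [cs_mul, map_inv, inv_inv]; exact e.symm⟩,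
      fun ⟨g, e⟩ => ⟨g⁻¹, by rw [e, cs_mul, ← map_inv]; rfl⟩⟩
  · ext g
    rw [← inv_mem_iff, mem_stc, ← cs_eq, cs_mul, map_inv, inv_inv]
    rfl

theorem card_T : (MulAction.stabilizer M24 A0).index = 3795 := by
  rw [MulAction.index_stabilizer, ← ncard_trios, ← J4.orbit_tr0]; rfl

theorem fix_T {x : J} (h : ∀ g : M24, pc g.1 ∈ [J4A.evc [0], J4A.evc wL] → g ∈ stc x) :
    x ∈ H ∨ x * z ∈ H := by
  have h1 : MulAction.stabilizer M24 A0 ≤ stc x := fun g hg => by
    have : St M24 A0 ≤ (stc x).map M24.subtype :=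
      genA.2.trans ((Subgroup.closure_le _).2 fun a ha => ⟨⟨a, ha.1.1⟩, h _ ha.2, rfl⟩)
    obtain ⟨a, ha, e⟩ := this (mem_St.2 ⟨g.2, hg⟩)
    exact Subtype.ext e ▸ ha
  obtain ⟨i, hi, k, e⟩ := closed.cover x
  have h2 := Subgroup.index_dvd_of_le h1
  rw [index_stc hi e, card_T] at h2
  rcases (by decide : ∀ i < 20, sz.getD i 0 ∣ 3795 → i = 0 ∨ i = 1) i hi h2 with rfl | rfl
  · rw [closed.w0, one_mul, cs_eq] at e
    exact .inl ((H.mul_mem_cancel_right (inv_mem (io_mem k))).1 e)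
  right
  rw [show wd s 1 = z from ev_single s 3] at e
  have h3 : stc z ≤ MulAction.stabilizer M24 A0 := by
    have := Subgroup.relIndex_mul_index (show MulAction.stabilizer M24 A0 ≤ stc z from fun g hg => by
      rw [mem_stc, ← cenA g hg, mul_inv_cancel_right]; exact io_mem g)
    rw [index_stc (i := 1) (k := 1) (by norm_num) (by rw [map_one, mul_one]; exact congrArg _ (ev_single s 3).symm), card_T] at this
    exact Subgroup.relIndex_eq_one.1 (by change _ * 3795 = _ at this; omega)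
  have h4 : (m24Err 0x7c937835d512e8c219072866a1da20 = 0 ∧
    Nat.xor (actF 3 (mat 0x7c937835d512e8c219072866a1da20) cA) cA = 0) := by decide +kernel
  obtain ⟨T, hT⟩ := Set.ncard_eq_one.1 (ncard_fix_trio (tm _).2 (pc_tm h4.1) (N := 1)
    (by decide +kernel))
  have h5 := mem_T h4
  generalize tm 0x7c937835d512e8c219072866a1da20 = g at *
  rw [cs_eq] at e
  have h6 : k * g * k⁻¹ ∈ stc z := by
    have := H.mul_mem (H.mul_mem (H.inv_mem e) (h1 h5)) e
    rw [mem_stc, map_mul, map_mul, map_inv]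
    convert this using 1
    simp [mul_assoc]
  have h7 : (k⁻¹).1 • A0 = A0 :=
    (hT.le ⟨smul_mem_trios (k⁻¹).2 cA_ok.mem, by
      rw [← mul_smul, ← Subgroup.coe_mul, show g * k⁻¹ = k⁻¹ * (k * g * k⁻¹) by group,
        Subgroup.coe_mul, mul_smul]
      exact congrArg _ (h3 h6)⟩).trans (hT.le ⟨cA_ok.mem, h5⟩).symm
  rw [mul_inv_rev, J4.z_inv, ← map_inv, cenA _ h7, ← mul_assoc] at e
  exact (H.mul_mem_cancel_right (io_mem _)).1 e

end Cfsg.Agent.J4B
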