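import Cfsg.Agent.J4B.OutB
import Cfsg.Agent.Golay.Out

/-! The automorphisms of `J₄` are inner. -/

set_option autoImplicit false
set_option maxRecDepth 100000

namespace Cfsg.Agent.J4B
open Cfsg Cfsg.Agent.Golay Cfsg.Agent.Comp
open Cfsg.Agent.Comp.J4 (s io H z_inv z_not_mem u_mem)
open scoped Pointwise

theorem inn_of {β : MulAut J} (c : J) (h : MulAut.conj c * β ∈ Inn J) : β ∈ Inn J :=
  ((Inn J).mul_mem_cancel_left ⟨c, rfl⟩).1 h

section
variable {β : MulAut J} (hV : ∀ x ∈ VV, β x = x) {u : Finset GolayPt} (hu : ∀ g, β (io g) = iu u g)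
include hV hu

theorem mem_iff (x : J) : β x ∈ H ↔ x ∈ H := by
  refine ⟨fun h => ?_, fun h => ?_⟩ <;> obtain ⟨y, hy, g, e⟩ := mem_H.1 h
  · have h1 := VV.mul_mem hy (nu_mem (co g u))
    rw [β.injective (show β x = β (y * nu (co g u) * io g) by
      rw [map_mul, hV _ h1, hu, iu_apply, e, mul_assoc, ← mul_assoc (nu _), nu_sq, one_mul])]
    exact mem_H.2 ⟨_, h1, _, rfl⟩
  · rw [e, map_mul, hV y hy, hu, iu_apply, ← mul_assoc]
    exact mem_H.2 ⟨_, VV.mul_mem hy (nu_mem _), _, rfl⟩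

omit hu in
theorem inn_zero (hu : ∀ g, β (io g) = io g) : β ∈ Inn J := by
  have h1 : ∀ g : M24, g.1 • A0 = A0 → io g * β z = β z * io g := fun g hg => by
    rw [← hu, ← map_mul, cenA g hg, map_mul]
  have h2 := (fix_T (x := β z) fun g hg => by
    rw [mem_stc, ← h1 g (by
      rw [← tm_pc g]; exact mem_T ((by decide +kernel : ∀ c ∈ [J4A.evc [0], J4A.evc wL],
        m24Err c = 0 ∧ Nat.xor (actF 3 (mat c) cA) cA = 0) _ hg)), mul_inv_cancel_right]
    exact io_mem g).resolve_left fun e => z_not_mem ((mem_iff hV (u := ∅)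
      (fun g => by rw [hu, iu_apply, co, Finset.smul_finset_empty, symmDiff_self]; simp [nu_empty]) z).1 e)
  have h3 := cen_T h2 fun g hg => by rw [← mul_assoc, h1 g hg, mul_assoc, cenA g hg, mul_assoc]
  rw [← zz, mul_left_inj] at h3
  have := J4.closed.gen (β.toMonoidHom.eqLocus (MonoidHom.id J)) (by rintro _ ⟨g, rfl⟩; exact hu g) h3
  rw [show β = 1 from MulEquiv.ext fun x => (this ▸ Subgroup.mem_top x :
    x ∈ β.toMonoidHom.eqLocus (MonoidHom.id J))]
  exact one_mem _

theorem not_odd : u ≠ um 0x1202 := by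
  rintro rfl
  have h0 : nu (um 0x160008) = cV (fd 6 cS1) := by
    rw [show cS1 = actF 6 (Golay.mat 0x58264605d73be462c456aa5141b550) cS by decide +kernel,
      ← nu_tet (by decide +kernel)]
    exact congrArg _ (congrArg _ (by decide +kernel))
  have h1 : ∀ g : M24, ∀ c, (m24Err c = 0 ∧ Nat.xor (actF 3 (mat c) cA) cA = 0) →
      syn (Nat.xor (Nat.xor (act (mat (pc g.1)) 0x1202) 0x1202) (act (mat c) 0x160008)) = 0 →
      nu (co g (um 0x1202)) = io (tm c) * cV (fd 6 cS1) * (io (tm c))⁻¹ := fun g c h e => by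
    rw [← h0, ← nu_smul _ (by decide +kernel)]
    refine nu_congr ?_
    rwa [mem_CW_iff_syn, mk_symmDiff, co, mk_symmDiff, ← act_pc, ← act_pc, mk_um (by norm_num),
      mk_um (by norm_num), pc_tm h.1]
  have h2 : β (β.symm z * io (tm cP) * (β.symm z)⁻¹) = β (cV (fd 6 cS1)) := by
    rw [map_mul, map_mul, map_inv, β.apply_symm_apply, hu, iu_apply, hV _ u_mem, h1 _ one
      (by decide +kernel) (by rw [pc_tm (by decide +kernel)]; decide +kernel), tm_one, map_one,
      one_mul, inv_one, mul_one, ← tau, mul_inv_cancel_right]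
  have h3 := fix_T (x := β.symm z) fun g hg => by
    obtain ⟨h4, c, -, h5, h6⟩ := (by decide +kernel : ∀ a ∈ [J4A.evc [0], J4A.evc wL],
      (m24Err a = 0 ∧ Nat.xor (actF 3 (mat a) cA) cA = 0) ∧
      ∃ c ∈ [0x7dce2835409399630513a912b1d225, 0x92ca6c4ac5cdc302054ba655818ef],
      (m24Err c = 0 ∧ Nat.xor (actF 3 (mat c) cA) cA = 0) ∧
      syn (Nat.xor (Nat.xor (act (mat a) 0x1202) 0x1202) (act (mat c) 0x160008)) = 0) _ hg
    have h7 := cenA _ (mem_T h4)
    have h8 := cenA _ (mem_T h5)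
    rw [tm_pc] at h7
    rw [mem_stc, ← mem_iff hV hu, map_mul, map_mul, map_inv, β.apply_symm_apply, hu, iu_apply,
      h1 g c h5 h6, show z * (io (tm c) * cV (fd 6 cS1) * (io (tm c))⁻¹ * io g) * z⁻¹ =
        z * io (tm c) * z⁻¹ * (z * cV (fd 6 cS1) * z⁻¹) * (z * io (tm c) * z⁻¹)⁻¹ * (z * io g * z⁻¹) by
        group, ← h7, ← h8, mul_inv_cancel_right, mul_inv_cancel_right, z_inv, J4.zuz]
    exact mul_mem (mul_mem (mul_mem (io_mem _) (mul_mem (VV_le_H u_mem) (io_mem _)))
      (inv_mem (io_mem _))) (io_mem _)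
  rcases h3 with h | h
  · exact z_not_mem (β.apply_symm_apply z ▸ (mem_iff hV hu _).2 h)
  · have h4 := VV_conj_H (inv_mem h) (β.injective h2 ▸ u_mem)
    rw [show (β.symm z * z)⁻¹ * (β.symm z * io (tm cP) * (β.symm z)⁻¹) * (β.symm z * z)⁻¹⁻¹ =
      z⁻¹ * (io (tm cP) * z) by group, cenA _ (mem_T (by decide +kernel)), inv_mul_cancel_left] at h4
    exact J4.cP_ne (eq_one_of_mem h4)

theorem inn_iu : β ∈ Inn J := by
  have key : ∀ e : Finset GolayPt, Even e.card → (∀ x ∈ VV, (MulAut.conj (nu e) * β) x = x) ∧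
      ∀ g, (MulAut.conj (nu e) * β) (io g) = iu (symmDiff u e) g := fun e he =>
    ⟨fun x hx => by
      rw [MulAut.mul_apply, hV x hx, MulAut.conj_apply, VV_comm (nu_mem _) hx, mul_inv_cancel_right],
    fun g => by
      rw [MulAut.mul_apply, hu, MulAut.conj_apply, iu_apply, iu_apply, co_add, co.eq_1 g e,
        nu_symmDiff, nu_smul g he, inv_eq_of_mul_eq_one_right (nu_sq e), ← nu_smul g he, nu_comm _ e,
        ← mul_assoc, ← mul_assoc, nu_comm e, nu_smul g he]
      group⟩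
  by_cases h : Even u.card
  · exact inn_of (nu u) (inn_zero (key u h).1 fun g => by
      rw [(key u h).2, iu_apply, symmDiff_self, co]; simp [nu_empty])
  · have h1 := key (symmDiff u (um 0x1202)) (by
      have := card_symmDiff_add u (um 0x1202)
      rw [show (um 0x1202).card = 3 by decide +kernel] at this
      rw [Nat.even_iff] at h ⊢; omega)
    exact (not_odd h1.1 h1.2 (symmDiff_symmDiff_cancel_left _ _)).elim
end

theorem inn_two {β : MulAut J} (hV : ∀ x ∈ VV, β x ∈ VV) (h : ∀ g, β (io g) * (io g)⁻¹ ∈ VV) :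
    β ∈ Inn J := by
  have h1 : ∀ g, β (io g) ∈ H := fun g => mem_H.2 ⟨_, h g, g, by simp⟩
  have h2 : ∀ g, pj (β (io g)) = g := fun g => by simpa using pj_eq (h g) g
  obtain ⟨u, hu⟩ := exists_iu (φ := β.toMonoidHom.comp io) h
  refine inn_iu (fun x hx => ?_) (DFunLike.congr_fun hu)
  have h3 : nu (um (4096 * 1141)) = nu (um 0x800001) :=
    nu_congr ((mem_CW_iff_syn _).2 (by decide +kernel))
  obtain ⟨j, -, e, h4⟩ := enum (L := [0xbc9d541a9638525541826c46f99160])
    (e := fun j => Nat.mul j (Nat.xor j 1141)) (by decide +kernel) (hV _ (nu_mem (um 0x800001)))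
    (List.forall_mem_singleton.2 ⟨_, h1 (tm 0xbc9d541a9638525541826c46f99160),
      by rw [h2, pc_tm (by decide +kernel)], by
      rw [← map_mul, ← map_mul, mul_inv_eq_iff_eq_mul.1 (nu_smul _ (by decide +kernel)).symm,
        ← um_mk (_ • _), ← act_pc, pc_tm (by decide +kernel)]
      exact congrArg (fun m => β (nu (um m) * _)) (by decide +kernel)⟩)
  rcases mul_eq_zero_iff'.1 e with rfl | e
  · rw [mul_zero, um_zero, nu_empty, map_eq_one_iff _ β.injective, nu_eq_one (by decide +kernel),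
      mem_CW_iff_syn] at h4
    exact absurd h4 (by decide +kernel)
  rw [xor_eq_zero_iff'.1 e, h3] at h4
  refine (VV_le_of_two (N := β.toMonoidHom.eqLocus (MonoidHom.id J) ⊓ VV) ?_ (by decide +kernel)
    ⟨h4, nu_mem _⟩ hx).1
  rintro g _ ⟨h5, a, rfl⟩
  obtain ⟨b, hb, e, -⟩ := exists_even a
  refine ⟨?_, VV_conj g (nu_mem a)⟩
  change β _ = _ at h5 ⊢
  rw [map_mul, map_mul, map_inv, h5, MonoidHom.id_apply, ← e, conj_nu (h1 g) hb, h2, nu_smul g hb]
  rfl

theorem inn_one {β : MulAut J} (hV : ∀ x, β x ∈ VV ↔ x ∈ VV) : β ∈ Inn J := by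
  have h1 : Subgroup.normalizer (VV : Set J) = H := by
    refine (J4.H_max fun h hh => Subgroup.mem_normalizer_iff.2 fun x =>
      ⟨VV_conj_H hh, fun e => by simpa [mul_assoc] using VV_conj_H (inv_mem hh) e⟩).resolve_right
      fun e => ?_
    have := (Subgroup.mem_normalizer_iff.1 (e ▸ Subgroup.mem_top z) _).1 u_mem
    rw [z_inv, J4.zuz] at this
    exact J4.cP_ne (eq_one_of_mem ((VV.mul_mem_cancel_left u_mem).1 this))
  have h2 : ∀ g, β (io g) ∈ H := fun g => h1 ▸ Subgroup.mem_normalizer_iff.2 fun x => by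
    obtain ⟨x, rfl⟩ := β.surjective x
    rw [← map_inv, ← map_mul, ← map_mul, hV, hV]
    exact Subgroup.mem_normalizer_iff.1 (h1 ▸ io_mem g) x
  let φ : M24 →* M24 := pH.comp ((β.toMonoidHom.comp io).codRestrict H h2)
  have h3 : Function.Injective φ := (injective_iff_map_eq_one φ).2 fun g e =>
    eq_one_of_mem ((hV _).1 ((pj_eq_one (h2 g)).1 e))
  obtain ⟨k, hk⟩ : MulEquiv.ofBijective φ (Finite.injective_iff_bijective.1 h3) ∈ Inn M24 :=
    (QuotientGroup.eq_one_iff _).1 ((Nat.card_eq_one_iff_unique.1 out_M24).1.elim _ _)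
  refine inn_of (io k⁻¹) (inn_two (fun x hx => VV_conj _ ((hV x).2 hx)) fun g => ?_)
  have h4 := VV_conj k⁻¹ (pj_spec (h2 g))
  rw [show pj (β (io g)) = k * g * k⁻¹ from (DFunLike.congr_fun hk g).symm] at h4
  convert h4 using 1
  simp [mul_assoc]

theorem out : Nat.card (Out J) = 1 := by
  refine Nat.card_eq_one_iff_unique.2 ⟨⟨fun a b => ?_⟩, inferInstance⟩
  suffices ∀ β : MulAut J, β ∈ Inn J from by
    induction a using QuotientGroup.induction_on
    induction b using QuotientGroup.induction_on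
    exact QuotientGroup.eq.2 (this _)
  intro β
  obtain ⟨P⟩ : Nonempty (Sylow 2 H) := inferInstance
  let S : Sylow 2 J := (P.2.map H.subtype).toSylow (by
    rw [Subgroup.index_map_subtype, J4.index_H]
    exact Nat.prime_two.not_dvd_mul P.not_dvd_index (by norm_num))
  have h1 : (S : Subgroup J) ≤ H := Subgroup.map_subtype_le _
  have h2 : VV ≤ S := fun x hx => by
    have : (VV.comap H.subtype).Normal := ⟨fun a ha g => VV_conj_H g.2 ha⟩
    exact ⟨⟨x, VV_le_H hx⟩, (IsPGroup.comap_subtype (K := H) (H := VV)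
      (IsPGroup.of_card (n := 11) card_VV)).le_sylow_of_normal P hx, rfl⟩
  obtain ⟨c, hc⟩ := MulAction.exists_smul_eq J (β • S) S
  refine inn_of c ?_
  have h3 : (S : Subgroup J).map (MulAut.conj c * β).toMonoidHom = S := by
    conv_rhs => rw [← hc]
    exact (mul_smul (MulAut.conj c) β (S : Subgroup J))
  generalize MulAut.conj c * β = γ at h3
  have h4 : VV.map γ.toMonoidHom = VV := off (((Subgroup.map_mono h2).trans h3.le).trans h1)
    (by rintro _ ⟨a, ha, rfl⟩ _ ⟨b, hb, rfl⟩; rw [← map_mul, VV_comm ha hb, map_mul])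
    (by
      rintro x hx _ ⟨a, ha, rfl⟩
      obtain ⟨y, hy, rfl⟩ := h3.ge (h2 hx)
      exact ⟨_, VV_conj_H (h1 hy) ha, by simp⟩)
    (by rw [Subgroup.card_map_of_injective γ.injective, card_VV])
  exact inn_one fun x => by
    nth_rw 1 [← h4]
    exact Subgroup.mem_map_iff_mem γ.injective

end Cfsg.Agent.J4B
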