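import Cfsg.Agent.Comp.J4.Pres
import Cfsg.Agent.J4B.Calc

/-! The presentation of `J₄`, relations between the conjugates of `t`. -/

set_option autoImplicit false
set_option maxRecDepth 100000

namespace Cfsg.Agent.J4B
open Cfsg Cfsg.Agent.Golay Cfsg.Agent.Comp
open Cfsg.Agent.Comp.J4 (s io io_ev pres R)
open scoped Pointwise

/-- the group -/
abbrev J : Type := Cfsg.Spor.J4

theorem satA : Sat s J4A.R := J4.satA pres.sat

/-- the generator `t` -/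
noncomputable def z : J := s 3

theorem zz : z * z = 1 := by simpa [z] using pres.sat [3, 3] (by decide +kernel)

theorem u2 : s 2 = (s 1)⁻¹ := eq_inv_of_mul_eq_one_right (by simpa using satA [1, 2] (by decide))

/-- the inverse of a word -/
def iw (w : List ℕ) : List ℕ := w.reverse.map fun a => if a = 1 then 2 else if a = 2 then 1 else a

theorem ev_iw {w : List ℕ} (h : ∀ x ∈ w, x < 4) : ev s (iw w) = (ev s w)⁻¹ := by
  induction w with
  | nil => simp [iw]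
  | cons a w ih =>
    obtain ⟨h1, h2⟩ := List.forall_mem_cons.1 h
    rw [iw, List.reverse_cons, List.map_append, ev_append, ← iw, ih h2, ev_cons, mul_inv_rev]
    congr 1
    interval_cases a
    · simpa using eq_inv_of_mul_eq_one_right (by simpa using satA [0, 0] (by decide))
    · simp [u2]
    · simp [u2]
    · simpa [z] using eq_inv_of_mul_eq_one_right zz

/-- the code of the trio of `t` -/
def cA : ℕ := 0xd4b0042903a1024c5a
/-- the trio of `t` -/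
def A0 : Finset (Finset GolayPt) := fd 3 cA
theorem cA_ok : TrioOk cA := by decide +kernel
/-- a generator of the trio group -/
def wL : List ℕ := [1, 0, 1, 0, 2, 0, 2, 0, 1, 0, 1, 0, 1]

theorem genA : Gen pc (St M24 A0) [J4A.evc [0], J4A.evc wL] :=
  gen_of_chain ((fixTest_fd cA_ok.1).in_St (by decide +kernel)) (card_St_trio cA_ok.mem)
    [(0, 16777215, 5, [[0, 1, 1, 1, 0, 1, 1, 0, 1, 1, 0, 1, 0, 1], [0, 1, 0, 1, 1, 0, 1, 0, 1, 0, 1, 1, 0, 1, 0]]), (1, 14089310, 4, [[1, 1, 0, 0, 1, 1, 0, 0], [0, 0, 0, 0, 0, 0, 1, 0, 1]]), (2, 13938692, 3, [[1, 0, 0, 1, 1, 1, 0, 0, 1, 0], [0, 1, 1, 0, 0, 1, 1, 1, 0, 0, 1]]), (3, 150616, 3, [[0, 1, 0]]), (4, 133136, 2, [])] (by decide +kernel)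

theorem cenA : Cen io z A0 := Cen.of_gen genA fun g hg => by
  have : ∀ w ∈ [[0], wL], io (ev J4A.t w) * z = z * io (ev J4A.t w) := fun w hw => by
    obtain ⟨h1, h2⟩ := (by decide +kernel : ∀ w ∈ [[0], wL], (∀ x ∈ w, x < 3) ∧
      3 :: (iw w ++ 3 :: w) ∈ R) w hw
    have := pres.sat _ h2
    rw [ev_cons, ev_append, ev_iw fun x hx => (h1 x hx).trans (by norm_num), ev_cons, ← z,
      ← zz, mul_right_inj, inv_mul_eq_iff_eq_mul] at this
    rw [io_ev h1, this]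
  simp only [← J4A.pc_ev, List.mem_cons, pc_inj, List.not_mem_nil, or_false] at hg
  rcases hg with h | h <;> rw [Subtype.ext h] <;> exact this _ (by simp)

/-- the conjugates of `t` -/
noncomputable def cT : Finset (Finset GolayPt) → J := cj io z A0

theorem eqT : Eqv io cT := ⟨cj_sq zz, cenA.smul⟩

/-- the trios of a list of words -/
noncomputable def trs (W : List (List ℕ)) : List ℕ := W.map fun w => actF 3 (mat (J4A.evc w)) cA

theorem pw_trs {W : List (List ℕ)} (h : ∀ w ∈ W, ∀ x ∈ w, x < 3) :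
    pw 3 cT (trs W) = ev s (W.flatMap fun w => w ++ 3 :: iw w) := by
  induction W with
  | nil => rfl
  | cons w W ih =>
    obtain ⟨h1, h2⟩ := List.forall_mem_cons.1 h
    have := (eqT.aw (ev J4A.t w) (ok_of (k := 3) (w := ([cA], one)) (by decide +kernel)).1).2
    rw [J4A.pc_ev, io_ev h1, ← ev_iw fun x hx => (h1 x hx).trans (by norm_num),
      show pw 3 cT [cA] = z from (mul_one _).trans cenA.self] at this
    rw [List.flatMap_cons, ev_append, ← ih h2, ev_append, ev_cons, ← z, ← mul_assoc (ev s w), ← this,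
      ← pw_append, aw, force_eq, mapL_eq]
    rfl

theorem rl_of (W : List (List ℕ)) (p q r : List ℕ) {w : Wd} (h : (∀ w ∈ W, ∀ x ∈ w, x < 3) ∧
    (∀ x ∈ p, x < 3) ∧ (∀ x ∈ q, x < 4) ∧ r ∈ R ∧
    J4A.nf ((W.flatMap fun w => w ++ 3 :: iw w) ++ p) = J4A.nf (q ++ r ++ iw q) ∧
    ((∀ a ∈ w.1, FOk 3 a) ∧ m24Err w.2 = 0) ∧ w = (trs W, J4A.evc p)) : Rl 3 cT io w := by
  obtain ⟨h1, h2, h3, h4, h5, h6, h7⟩ := h
  refine ⟨ok_of h6, ?_⟩
  rw [h7, pw_trs h1, ← J4A.pc_ev, tm_pc, io_ev h2, ← ev_append, ← J4A.ev_nf satA, h5,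
    J4A.ev_nf satA, ev_append, ev_append, pres.sat r h4, ev_iw h3, mul_one, mul_inv_cancel]

/-- the first relation -/
def r1 : Wd := ([0xe009521230ac0dc601, 0xe0095212c6280d3085, 0xe009521f002900f684], 0xbdab49ca307b9ac5a928398a418820)
/-- the second relation -/
def r2 : Wd := ([0xd4b0042903a1024c5a, 0x85161450a9032a40e8, 0xd4b0042903a1024c5a, 0x84190751a6102a40e8], 0x650f6288d068df75a928ac66474820)

theorem rl1 : Rl 3 cT io r1 := rl_of [[1, 0, 1, 0, 2, 0, 1, 0, 2], [2, 0, 1, 0, 2, 0, 1, 0, 2], [0, 1, 0, 2, 0, 1, 0, 2]] [] []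
  [1, 0, 1, 0, 2, 0, 1, 0, 2, 3, 1, 0, 2, 0, 1, 0, 2, 0, 1, 0, 1, 0, 2, 0, 1, 0, 2, 3, 1, 0, 2, 0, 1, 0, 2, 0, 1, 0, 1, 0, 2, 0, 1, 0, 2, 3, 1, 0, 2, 0, 1, 0, 2, 0] (by decide +kernel)

theorem rl2 : Rl 3 cT io r2 := rl_of [[1, 0, 1, 0, 1, 0, 1, 1, 0, 1, 0, 1, 0, 1, 1, 0, 1, 0, 1, 0, 1], [1, 0, 1, 0, 1, 0, 1, 1, 0, 1, 0, 1, 0, 1, 1, 0, 1, 0, 1, 0, 2, 0, 2, 0, 2, 0, 2, 0, 2, 0, 2, 0, 2, 2, 0, 2, 0, 2, 0], [1, 0, 1, 0, 1, 0, 1, 1, 0, 1, 0, 1, 0, 1, 1, 0, 1, 0, 1, 0, 1, 1, 0, 1, 0, 1, 0, 1, 1, 0, 1, 0, 1, 0, 1, 1, 0, 1, 0, 1, 0, 1], [1, 0, 1, 0, 1, 0, 1, 1, 0, 1, 0, 1, 0, 1, 1, 0, 1, 0, 1, 0, 1, 1, 0, 1, 0, 1, 0, 1, 1, 0, 1, 0, 1, 0, 1, 1, 0, 1, 0, 1, 0, 2, 0, 2, 0, 2, 0, 2, 0, 2, 0, 2, 0, 2, 2, 0, 2, 0, 2, 0]]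
  [1, 0, 1, 0, 1, 0, 1, 1, 0, 1, 0, 1, 0, 1, 1, 0, 1, 0, 1, 0, 1, 1, 0, 1, 0, 1, 0, 1, 1, 0, 1, 0, 1, 0, 1, 1, 0, 1, 0, 1, 0, 1] []
  [1, 0, 1, 0, 1, 0, 1, 1, 0, 1, 0, 1, 0, 1, 1, 0, 1, 0, 1, 0, 1, 3, 2, 2, 0, 2, 0, 2, 0, 2, 0, 2, 0, 2, 0, 2, 2, 0, 2, 0, 2, 0, 3, 0, 1, 0, 1, 0, 1, 1, 0, 1, 0, 1, 0, 1, 0, 1, 0, 1, 0, 1, 1, 1, 0, 1, 0, 1, 0, 1, 1, 0, 1, 0, 1, 0, 1, 1, 0, 1, 0, 1, 0, 1, 3, 2, 2, 0, 2, 0, 2, 0, 2, 0, 2, 0, 2, 0, 2, 2, 0, 2, 0, 2, 0, 3, 0, 1, 0, 1, 0, 1, 1, 0, 1, 0, 1, 0, 1, 0, 1, 0, 1, 0, 1, 1] (by decide +kernel)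

/-- the derivations -/
def DT : List (Wd × List Step) :=
  [(([0x90c0e4621b010d241a, 0x9d4006602c190293e0, 0x90c0e4621b010d241a, 0x9d4006602c190293e0], 0xbdab49ca307b9ac5a928398a418820),
    [(1, 0, 0, 0, 0x13cc40586b8a2122a5940dd4e6ccf5), (3, 0, 0, 0, 0x5a9b233e078a45723115a00369b865), (1, 0, 0, 0, 0x82ed1b892e399aa03cb31c981412b4), (3, 0, 0, 0, 0xbb12a0c8702beab89cd4039a225913), (3, 0, 0, 0, 0x98da58b1e8b56ee22c01148f035149), (2, 0, 0, 0, 0x63ce4a8156a08302bae99a0716c8cb)]),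
   (([0x90c0e4621b010d241a, 0x9d4006602c190293e0, 0xf048050f130200a4f8, 0x90c0e4621b010d241a, 0x9d4006602c190293e0, 0xf048050f130200a4f8], 0xbdab49ca307b9ac5a928398a418820),
    [(2, 2, 0, 0, 0x53ce30c192036f1339095d6d411265), (3, 2, 0, 0, 0x22ecd9c85028d2eac697798e862820), (2, 2, 0, 0, 0x540230558b3b5c99522833cb7112d3)]),
   (([0xf048050f130200a4f8, 0x90c0e4621b010d241a, 0x9d4006602c190293e0, 0xf048050f130200a4f8, 0x9d4006602c190293e0, 0x90c0e4621b010d241a], 0xbdab49ca307b9ac5a928398a418820),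
    [(4, 2, 0, 0, 0x540230558b3b5c99522833cb7112d3), (2, 2, 0, 0, 0x1402e02c762d18d9254431de88deb3)]),
   (([0x90641c621b010d80e2, 0x90c0e46d0803023718, 0xf048050d241a0293e0, 0xf048050f130200a4f8, 0x9d4006602c190293e0, 0x90c0e4621b010d241a], 0xbdab49ca307b9ac5a928398a418820),
    [(4, 0, 0, 0, 0xb0aec68d0429a5073ce09d52b8868a), (3, 0, 0, 0, 0x40da20c9d079d76514c903291bd493), (3, 0, 0, 0, 0x8af66440979d4da18b324172a8dc8), (2, 0, 0, 0, 0x402d01aa4d3bee2a94cca24319b964)]),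
   (([0x90c0e4621b010d241a, 0x9d4006602c190293e0, 0xf048050f130200a4f8, 0xc7500130ac240803da, 0xc040d9380b0607b420, 0xf048050f130200a4f8, 0xa54b0050803d0a34c2, 0xa0c8385a10070527c0, 0xaa580255030500a4f8], 0xbdab49ca307b9ac5a928398a418820),
    [(4, 4, 0, 2, 0x33da39a22901d6c55612bbad411025), (6, 5, 0, 1, 0xa148072db59892a1c0e60c58895aef), (5, 1, 0, 0, 0x9c472b05c2819895568525c0b3a1af), (4, 1, 0, 1, 0x7ac35489846c945bd866442608d1c7), (3, 0, 0, 0, 0xb346131607b8988551cb4d6409c48f), (5, 1, 0, 0, 0x50356d8a75a04e80ccc9bd444de51), (4, 1, 0, 1, 0x32568106ed1d88784545a02ac74e4f), (3, 0, 0, 0, 0x918e315c94b2d0c782a18c1536a4ae), (2, 0, 0, 0, 0x8d4047986784c4eb0649a31a855d65), (3, 0, 0, 0, 0xb320519944aac2988a80439b77ce47), (2, 0, 0, 0, 0x3955698414aaef01a12d9122f638c2)]),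
   (([0xd4b0042903a1024c5a, 0x96140a49406520ab90, 0x80bc126043c41f0029, 0xc0544636038809a831, 0xd4b0042903a1024c5a, 0xc0544636038809a831, 0x80bc126043c41f0029, 0x96140a49406520ab90], 0x60ab29d070699f7205283b8ab8d940),
    [(5, 1, 0, 1, 0x75c0c82aab11ec6a448f2a2634864d), (4, 1, 0, 1, 0x6350f3ae0251437a0ec6482b19924e), (2, 1, 0, 0, 0xa2aa13de0d18232309e4495169b1cb)])]

theorem rlT : ∀ r ∈ DT.map Prod.fst, Rl 3 cT io r :=
  eqT.ders (L := [r1, r2]) (by simp [rl1, rl2]) (by decide +kernel)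

/-- three trios that refine a sextet -/
def vw : List ℕ := [0x90c0e4621b010d241a, 0x9d4006602c190293e0, 0xf048050f130200a4f8]
/-- the involution of the sextet -/
noncomputable def v : J := pw 3 cT vw

theorem v_ev : v = ev s J4.vw := by
  rw [v, show vw = trs [[1, 0, 1, 0, 2, 0, 2, 0, 2, 0, 2], [2, 0, 1, 0, 2, 0, 2, 0, 2, 0, 2], [0, 1, 0, 2, 0, 2, 0, 2, 0, 2]] by decide +kernel, pw_trs (by decide), ← J4A.ev_nf satA,
    ← J4A.ev_nf satA J4.vw]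
  exact congrArg _ (by decide +kernel)

theorem vv : v * v = 1 := by
  have := (rlT (vw ++ vw, one) (by decide +kernel)).2
  rwa [pw_append, tm_one, map_one, mul_one] at this

/-- the code of the sextet -/
def cS : ℕ := 0x9040046008010d00020213000080e0002418
/-- the sextet -/
def S0 : Finset (Finset GolayPt) := fd 6 cS
theorem cS_ok : SexOk cS := by decide +kernel

theorem cenS : Cen io v S0 := Cen.of_gen (cs := [0x22ecd9c85028d2eac697798e862820, 0x1ca0a444c9136a5980ef75e8bb1181])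
  (gen_of_chain ((fixTest_fd cS_ok.1).in_St (by decide +kernel)) (card_St_sextet cS_ok.mem)
    [(0, 16777215, 7, [[0], [1, 0, 0, 1, 1, 0, 1, 1, 0, 1, 1]]), (1, 10483710, 5, [[1, 0, 0, 1, 0, 0, 1, 0, 1, 0], [0, 1, 0, 1, 0, 1], [1, 0, 0, 1, 1, 0, 1, 1, 1, 0]]), (2, 9631740, 2, [[1, 0, 2, 0, 1, 2, 2], [0, 2, 0, 1, 2, 2], [2, 2, 1, 2]]), (3, 165752, 2, [[2]]), (4, 1040, 1, [])] (by decide +kernel)) fun g hg =>
  eqT.comm g (by decide +kernel) (rlT _ ((by decide +kernel : ∀ c ∈ [0x22ecd9c85028d2eac697798e862820, 0x1ca0a444c9136a5980ef75e8bb1181],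
    (aw 3 c vw ++ vw.reverse, one) ∈ DT.map Prod.fst) _ hg))

/-- the conjugates of `v` -/
noncomputable def cV : Finset (Finset GolayPt) → J := cj io v S0

theorem eqV : Eqv io cV := ⟨cj_sq vv, cenS.smul⟩

theorem pw_vw {g : ℕ} (h : m24Err g = 0) : pw 3 cT (aw 3 g vw) = cV (fd 6 (actF 6 (mat g) cS)) := by
  have := (eqV.aw (tm g) (ok_of (k := 6) (w := ([cS], one)) (by decide +kernel)).1).2
  rw [show pw 6 cV [cS] = v from (mul_one _).trans cenS.self, v,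
    ← (eqT.aw (tm g) (ok_of (k := 3) (w := (vw, one)) (by decide +kernel)).1).2, pc_tm h] at this
  rw [← this, aw, force_eq, mapL_eq]
  exact mul_one _

/-- three sextets that refine a trio -/
def line : Wd := ([0x9040046008010d00020213000080e0002418, 0xc0400130080408030207100000a4200000d8, 0xa048005000050a10020503000080380024c0], 0xbdab49ca307b9ac5a928398a418820)

theorem rl_line : Rl 6 cV io line := by
  obtain ⟨a, b, c, h, h1, h2⟩ : ∃ a b c, (m24Err a = 0 ∧ m24Err b = 0 ∧ m24Err c = 0) ∧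
      (aw 3 a vw ++ (aw 3 b vw ++ aw 3 c vw), one) ∈ DT.map Prod.fst ∧
      line = ([actF 6 (mat a) cS, actF 6 (mat b) cS, actF 6 (mat c) cS], one) :=
    ⟨[0xbdab49ca307b9ac5a928398a418820, 0xa82e20a5882acd171e50535e325276, 0x8005233467aa224b04af72eec9a554][0], [0xbdab49ca307b9ac5a928398a418820, 0xa82e20a5882acd171e50535e325276, 0x8005233467aa224b04af72eec9a554][1], [0xbdab49ca307b9ac5a928398a418820, 0xa82e20a5882acd171e50535e325276, 0x8005233467aa224b04af72eec9a554][2], by decide +kernel⟩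
  have := (rlT _ h1).2
  rw [pw_append, pw_append, pw_vw h.1, pw_vw h.2.1, pw_vw h.2.2] at this
  exact ⟨ok_of (by decide +kernel), by rw [h2]; simpa [pw, mul_assoc] using this⟩

/-- a sextet with a tetrad in the first octad -/
def cS1 : ℕ := 0x80140240404420038016000809002100a810
/-- an involution of the octad group -/
def cP : ℕ := 0x60ab29d070699f7205283b8ab8d940

theorem tau : cV (fd 6 cS1) * z = z * (cV (fd 6 cS1) * io (tm cP)) := by
  obtain ⟨a, h, h1, h2⟩ : ∃ a, m24Err a = 0 ∧ cS1 = actF 6 (mat a) cS ∧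
      ([cA] ++ (aw 3 a vw ++ ([cA] ++ (aw 3 a vw).reverse)), cP) ∈ DT.map Prod.fst :=
    ⟨0x58264605d73be462c456aa5141b550, by decide +kernel⟩
  have := (rlT _ h2).2
  rw [pw_append, pw_append, pw_append, eqT.rev, pw_vw h, ← h1,
    show pw 3 cT [cA] = z from (mul_one _).trans cenA.self,
    ← eq_inv_of_mul_eq_one_left (eqV.sq _), mul_assoc, ← zz, mul_right_inj, mul_assoc,
    mul_assoc] at this
  rw [← this, ← mul_assoc, eqV.sq, one_mul, this]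

end Cfsg.Agent.J4B
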